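import Groth.Agent.RetrLiftLib.Points
import Groth.Agent.BigCellLib.Torus

/-! Lifting all points: infinite residue fields directly, finite ones by a Galois norm. -/

set_option autoImplicit false
set_option backward.isDefEq.respectTransparency false
set_option linter.style.haveILetI false
set_option maxHeartbeats 800000

universe u

open CategoryTheory CategoryTheory.Limits MonoidalCategory CartesianMonoidalCategory AlgebraicGeometry
open scoped MonObj TensorProduct

attribute [-instance] CategoryTheory.Hom.commGroup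

noncomputable section

namespace Groth.Agent.RetrLift

variable {k : Type u} [Field k] {T : Over (Spec (CommRingCat.of k))}

/-- Points of an affine object cancel along injections of algebras. -/
theorem cancel_pmap [IsAffine T.left] {B C : Type u} [CommRing B] [Algebra k B] [CommRing C] [Algebra k C]
    (f : B →ₐ[k] C) (hf : Function.Injective f) (y y' : pt k B ⟶ T) (h : pmap f ≫ y = pmap f ≫ y') : y = y' := by
  apply Over.OverMorphism.ext
  rw [← cancel_mono T.left.isoSpec.hom, ← Spec.map_preimage (y.left ≫ T.left.isoSpec.hom),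
    ← Spec.map_preimage (y'.left ≫ T.left.isoSpec.hom)]
  refine congrArg Spec.map ?_
  have h' := congrArg (fun m : pt k C ⟶ T => m.left ≫ T.left.isoSpec.hom) h
  have h2 : Spec.preimage (y.left ≫ T.left.isoSpec.hom) ≫ CommRingCat.ofHom f.toRingHom =
      Spec.preimage (y'.left ≫ T.left.isoSpec.hom) ≫ CommRingCat.ofHom f.toRingHom :=
    Spec.map_injective (by
      simp only [Spec.map_comp, Spec.map_preimage]
      simpa [pmap] using h')
  exact CommRingCat.hom_ext (RingHom.ext fun z => hf (ConcreteCategory.congr_hom h2 z))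

/-- Invariants of the base change along a Galois extension. -/
theorem mem_range_includeLeft {A : Type u} [CommRing A] [Algebra k A] {L : Type} [Field L] [Algebra k L]
    [FiniteDimensional k L] [IsGalois k L] (z : A ⊗[k] L)
    (hz : ∀ σ : L ≃ₐ[k] L, Algebra.TensorProduct.map (AlgHom.id k A) σ.toAlgHom z = z) :
    ∃ a : A, a ⊗ₜ[k] (1 : L) = z := by
  classical
  let b := Module.Free.chooseBasis k A
  let E := TensorProduct.equivFinsuppOfBasisLeft (N := L) b
  have hnat : ∀ (σ : L ≃ₐ[k] L) (z : A ⊗[k] L) i,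
      E (Algebra.TensorProduct.map (AlgHom.id k A) σ.toAlgHom z) i = σ (E z i) := by
    intro σ z i
    induction z using TensorProduct.induction_on with
    | zero => simp
    | tmul x y => simp [E, TensorProduct.equivFinsuppOfBasisLeft_apply_tmul_apply]
    | add x y hx hy => simp [hx, hy]
  have hc : ∀ i, ∃ c : k, algebraMap k L c = E z i := fun i =>
    IntermediateField.mem_bot.1 ((IsGalois.mem_bot_iff_fixed (E z i)).2 fun σ => by rw [← hnat, hz])
  choose c hc using hc
  refine ⟨(E z).sum fun i _ => c i • b i, E.injective (Finsupp.ext fun i => ?_)⟩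
  rw [TensorProduct.equivFinsuppOfBasisLeft_apply_tmul_apply, Finsupp.sum, map_sum,
    Finsupp.finsetSum_apply, Finset.sum_eq_single i]
  · rw [map_smul, Module.Basis.repr_self, Finsupp.smul_apply, Finsupp.single_eq_same, smul_eq_mul, mul_one,
      Algebra.smul_def, mul_one, hc]
  · intro j _ hj
    rw [map_smul, Module.Basis.repr_self, Finsupp.smul_apply, Finsupp.single_eq_of_ne' hj, smul_zero]
  · intro hi
    rw [map_smul, Module.Basis.repr_self, Finsupp.smul_apply, Finsupp.single_eq_same, smul_eq_mul, mul_one]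
    exact (algebraMap k L).injective (by rw [hc, Finsupp.notMem_support_iff.1 hi, map_zero])

theorem dvd_finrank {K M : Type*} [Field K] [Field M] [Algebra k K] [Algebra k M] (f : K →ₐ[k] M) :
    Module.finrank k K ∣ Module.finrank k M := by
  letI := f.toRingHom.toAlgebra
  haveI : IsScalarTower k K M := IsScalarTower.of_algebraMap_eq fun c => (f.commutes c).symm
  exact Dvd.intro _ (Module.finrank_mul_finrank k K M)

theorem isField_tensor (K : Type u) (L : Type) [Field K] [Field L] [Algebra k K] [Algebra k L]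
    [FiniteDimensional k K] [FiniteDimensional k L] (h : Nat.Coprime (Module.finrank k K) (Module.finrank k L)) :
    IsField (K ⊗[k] L) := by
  obtain ⟨m, hm⟩ := Ideal.exists_maximal (K ⊗[k] L)
  letI := Ideal.Quotient.field m
  have h1 := dvd_finrank ((Ideal.Quotient.mkₐ k m).comp (Algebra.TensorProduct.includeLeft : K →ₐ[k] K ⊗[k] L))
  have h1' := dvd_finrank ((Ideal.Quotient.mkₐ k m).comp (Algebra.TensorProduct.includeRight : L →ₐ[k] K ⊗[k] L))
  have h2 := Nat.le_of_dvd Module.finrank_pos (h.mul_dvd_of_dvd_of_dvd h1 h1')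
  have h3 : Module.finrank k (K ⊗[k] L) = Module.finrank k K * Module.finrank k L := Module.finrank_tensorProduct
  have h4 := Submodule.finrank_quotient_add_finrank (m.restrictScalars k)
  have h5 : Module.finrank k ((K ⊗[k] L) ⧸ m.restrictScalars k) = Module.finrank k ((K ⊗[k] L) ⧸ m) :=
    (Submodule.Quotient.restrictScalarsEquiv k m).finrank_eq
  have h6 : Module.finrank k ↥(m.restrictScalars k) = 0 := by omega
  have hm0 : m = ⊥ := (Submodule.restrictScalars_eq_bot_iff _ _ _).1 (Submodule.finrank_eq_zero.1 h6)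
  exact MulEquiv.isField ((Ideal.Quotient.maximal_ideal_iff_isField_quotient m).1 hm)
    ((RingEquiv.quotientBot (K ⊗[k] L)).symm.trans (Ideal.quotEquivOfEq hm0.symm)).toMulEquiv

theorem isLocalRing_tensor {A K : Type u} [CommRing A] [IsLocalRing A] [Algebra k A] [Field K] [Algebra k K]
    (r₀ : A →ₐ[k] K) (hr₀ : Function.Surjective r₀) (L : Type) [Field L]
    [Algebra k L] [FiniteDimensional k L] (h : IsField (K ⊗[k] L)) :
    IsLocalRing (A ⊗[k] L) := by
  let r : A ⊗[k] L →ₐ[k] K ⊗[k] L := Algebra.TensorProduct.map r₀ (AlgHom.id k L)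
  have hr : Function.Surjective r :=
    Algebra.TensorProduct.map_surjective _ _ hr₀ Function.surjective_id
  have hk0 := Algebra.TensorProduct.rTensor_ker (R := k) (S := k) (C := L) r₀ hr₀
  have hm : RingHom.ker r₀ = IsLocalRing.maximalIdeal A :=
    IsLocalRing.eq_maximalIdeal (RingHom.ker_isMaximal_of_surjective r₀ hr₀)
  rw [hm] at hk0
  haveI hb : (⊥ : Ideal (K ⊗[k] L)).IsMaximal :=
    Ideal.Quotient.maximal_of_isField _ (MulEquiv.isField h (RingEquiv.quotientBot (K ⊗[k] L)).toMulEquiv)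
  have hmax : (RingHom.ker r).IsMaximal := Ideal.comap_isMaximal_of_surjective r hr
  refine IsLocalRing.of_unique_max_ideal ⟨_, hmax, fun M hM => ?_⟩
  haveI : M.IsMaximal := hM
  have hc : M.comap (algebraMap A (A ⊗[k] L)) = IsLocalRing.maximalIdeal A :=
    IsLocalRing.eq_maximalIdeal (Ideal.isMaximal_comap_of_isIntegral_of_isMaximal M)
  refine (hmax.eq_of_le hM.ne_top ?_).symm
  refine hk0.trans_le ?_
  rw [← hc]
  exact Ideal.map_comap_le

theorem exists_aeval_ne_zero {K C : Type*} [Field K] [CommRing C] [Algebra K C] [Finite C] (hC : IsField C) {n : ℕ}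
    (g : MvPolynomial (Fin n) K) (hg : g ≠ 0) (hcard : g.totalDegree < Nat.card C) :
    ∃ x : Fin n → C, MvPolynomial.aeval x g ≠ 0 := by
  haveI := hC.isDomain
  haveI : Nontrivial C := hC.nontrivial
  by_contra hall
  push Not at hall
  haveI : Fintype C := Fintype.ofFinite C
  refine hg (MvPolynomial.map_injective (algebraMap K C) (algebraMap K C).injective ?_)
  rw [map_zero]
  refine MvPolynomial.eq_zero_of_eval_zero_at_prod_finset _ (fun _ => Finset.univ) (fun i => ?_) fun x _ => ?_
  · rw [Finset.card_univ, ← Nat.card_eq_fintype_card, MvPolynomial.degreeOf_def,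
      MvPolynomial.degrees_map_of_injective _ (algebraMap K C).injective, ← MvPolynomial.degreeOf_def]
    exact (MvPolynomial.degreeOf_le_totalDegree g i).trans_lt hcard
  · rw [MvPolynomial.eval_map, ← MvPolynomial.aeval_def]
    exact hall x

variable [GrpObj T]

/-- The norm step. -/
theorem norm_lift (R : Retr T) (hT : Red.IsTorus T) {A K A' C : Type u} [CommRing A] [Algebra k A] [Field K]
    [Algebra k K] [CommRing A'] [IsLocalRing A'] [Algebra k A'] [Field C] [Algebra k C] [Algebra K C]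
    [IsScalarTower k K C] {r₀ : A →ₐ[k] K} {u : pt k K ⟶ T} {g : MvPolynomial (Fin R.n) K}
    (hg : ∀ (L : Type u) [Field L] [Algebra k L] [Algebra K L] [IsScalarTower k K L] (x : Fin R.n → L),
      MvPolynomial.aeval x g ≠ 0 → ∃ v : pt k L ⟶ T, v.left (IsLocalRing.closedPoint L) ∈ R.U ∧
        ((pmap (IsScalarTower.toAlgHom k K L) ≫ u) * v).left (IsLocalRing.closedPoint L) ∈ R.U)
    (hx : ∃ x : Fin R.n → C, MvPolynomial.aeval x g ≠ 0)
    (r : A' →ₐ[k] C) (hr : Function.Surjective r) (il : A →ₐ[k] A') (hil : Function.Injective il)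
    (hril : ∀ y, r (il y) = algebraMap K C (r₀ y))
    {G : Type*} [Group G] [Fintype G] (τ : G → (A' →ₐ[k] A')) (hτ : ∀ σ ρ, τ (σ * ρ) = (τ σ).comp (τ ρ))
    (σC : G → (C →ₐ[k] C)) (e1 : ∀ σ, r.comp (τ σ) = (σC σ).comp r)
    (e2 : ∀ σ a, σC σ (algebraMap K C a) = algebraMap K C a)
    (hfix : ∀ z, (∀ σ, τ σ z = z) → ∃ a, il a = z) :
    ∃ s : pt k A ⟶ T, pmap r₀ ≫ s = u ^ Fintype.card G := by
  haveI : IsAffine T.left := AlbLib.isAffine_of_isTorus hT
  obtain ⟨x, hx⟩ := hx
  obtain ⟨v, hv, hwv⟩ := hg C x hx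
  let inC : K →ₐ[k] C := IsScalarTower.toAlgHom k K C
  obtain ⟨s, hs⟩ := lift_of_split R r hr (pmap inC ≫ u) v hv hwv
  have hτr : ∀ σ, pmap r ≫ pmap (τ σ) ≫ s = pmap inC ≫ u := fun σ => by
    rw [← Category.assoc, pmap_comp, e1, ← pmap_comp, Category.assoc, hs, ← Category.assoc, pmap_comp]
    exact congrArg (pmap · ≫ u) (AlgHom.ext (e2 σ))
  letI : CommGroup (pt k A' ⟶ T) :=
    { (inferInstance : Group (pt k A' ⟶ T)) with mul_comm := BigCell.torus_comm hT }
  letI : CommGroup (pt k C ⟶ T) :=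
    { (inferInstance : Group (pt k C ⟶ T)) with mul_comm := BigCell.torus_comm hT }
  let N : pt k A' ⟶ T := ∏ σ : G, pmap (τ σ) ≫ s
  have hN : ∀ ρ, pmap (τ ρ) ≫ N = N := fun ρ => by
    let φ : (pt k A' ⟶ T) →* (pt k A' ⟶ T) :=
      { toFun := fun y => pmap (τ ρ) ≫ y, map_one' := MonObj.comp_one _, map_mul' := MonObj.comp_mul _ }
    show φ N = N
    rw [map_prod]
    refine Fintype.prod_equiv (Equiv.mulLeft ρ) _ _ fun σ => ?_
    show pmap (τ ρ) ≫ pmap (τ σ) ≫ s = pmap (τ (ρ * σ)) ≫ s
    rw [← Category.assoc, pmap_comp, hτ]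
  have hNr : pmap r ≫ N = pmap inC ≫ u ^ Fintype.card G := by
    let φ : (pt k A' ⟶ T) →* (pt k C ⟶ T) :=
      { toFun := fun y => pmap r ≫ y, map_one' := MonObj.comp_one _, map_mul' := MonObj.comp_mul _ }
    show φ N = _
    rw [map_prod]
    show ∏ σ, pmap r ≫ pmap (τ σ) ≫ s = _
    simp only [hτr, Finset.prod_const, Finset.card_univ]
    exact (MonObj.comp_pow _ _ _).symm
  clear_value N
  let ψ := Spec.preimage (N.left ≫ T.left.isoSpec.hom)
  have hN' : ∀ σ, Spec.map (CommRingCat.ofHom (τ σ).toRingHom) ≫ N.left = N.left := fun σ =>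
    congrArg CommaMorphism.left (hN σ)
  have hψ : ∀ y σ, τ σ (ψ.hom y) = ψ.hom y := fun y σ => by
    have h2 : ψ ≫ CommRingCat.ofHom (τ σ).toRingHom = ψ := Spec.map_injective (by
      rw [Spec.map_comp, Spec.map_preimage, ← Category.assoc, hN' σ])
    exact ConcreteCategory.congr_hom h2 y
  choose a ha using fun y => hfix (ψ.hom y) (hψ y)
  let ψ₀ : Γ(T.left, ⊤) →+* A :=
    { toFun := a
      map_one' := hil (by rw [map_one]; exact (ha 1).trans (map_one _))
      map_mul' := fun y y' => hil (by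
        rw [map_mul]; exact (ha _).trans ((map_mul ψ.hom y y').trans (congrArg₂ _ (ha y).symm (ha y').symm)))
      map_zero' := hil (by rw [map_zero]; exact (ha 0).trans (map_zero _))
      map_add' := fun y y' => hil (by
        rw [map_add]; exact (ha _).trans ((map_add ψ.hom y y').trans (congrArg₂ _ (ha y).symm (ha y').symm))) }
  let f₀ : Spec (CommRingCat.of A) ⟶ T.left := Spec.map (CommRingCat.ofHom ψ₀) ≫ T.left.isoSpec.inv
  have hf₀ : Spec.map (CommRingCat.ofHom il.toRingHom) ≫ f₀ = N.left := by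
    rw [← cancel_mono T.left.isoSpec.hom, Category.assoc, Category.assoc, Iso.inv_hom_id, Category.comp_id,
      ← Spec.map_comp, ← Spec.map_preimage (N.left ≫ T.left.isoSpec.hom)]
    exact congrArg Spec.map (CommRingCat.hom_ext (RingHom.ext ha))
  have hw : f₀ ≫ T.hom = (pt k A).hom := by
    have h3 : Spec.preimage (f₀ ≫ T.hom) ≫ CommRingCat.ofHom il.toRingHom =
        CommRingCat.ofHom (algebraMap k A') := Spec.map_injective (by
      rw [Spec.map_comp, Spec.map_preimage, ← Category.assoc, hf₀]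
      exact Over.w N)
    rw [← Spec.map_preimage (f₀ ≫ T.hom)]
    refine congrArg Spec.map (CommRingCat.hom_ext (RingHom.ext fun c => hil ?_))
    exact (ConcreteCategory.congr_hom h3 c).trans (il.commutes c).symm
  refine ⟨Over.homMk f₀ hw, ?_⟩
  refine cancel_pmap inC (algebraMap K C).injective _ _ ?_
  rw [← hNr, ← Category.assoc, pmap_comp, show inC.comp r₀ = r.comp il from AlgHom.ext fun y => (hril y).symm,
    ← pmap_comp, Category.assoc]
  exact congrArg (pmap r ≫ ·) (Over.OverMorphism.ext hf₀)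

/-- **Surjectivity of reduction for retract rational tori.** -/
theorem exists_lift (R : Retr T) (hT : Red.IsTorus T) (A : Type u) [CommRing A] [IsLocalRing A] [Algebra k A]
    (u : pt k (IsLocalRing.ResidueField A) ⟶ T) :
    ∃ s : pt k A ⟶ T, pmap (IsScalarTower.toAlgHom k A (IsLocalRing.ResidueField A)) ≫ s = u := by
  classical
  let κ := IsLocalRing.ResidueField A
  let r₀ : A →ₐ[k] κ := IsScalarTower.toAlgHom k A κ
  have hr₀ : Function.Surjective r₀ := IsLocalRing.residue_surjective
  obtain ⟨g, hg0, hg⟩ := exists_good R hT (K := κ) u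
  rcases finite_or_infinite κ with hfin | hinf
  swap
  · obtain ⟨x, hx⟩ : ∃ x : Fin R.n → κ, MvPolynomial.aeval x g ≠ 0 := by
      by_contra hall
      push Not at hall
      exact hg0 (MvPolynomial.funext fun x => by rw [map_zero]; exact hall x)
    obtain ⟨v, hv, hwv⟩ := hg κ x hx
    have hid : pmap (IsScalarTower.toAlgHom k κ κ) ≫ u = u := by
      have : pmap (IsScalarTower.toAlgHom k κ κ) = 𝟙 (pt k κ) := Over.OverMorphism.ext (Spec.map_id _)
      rw [this, Category.id_comp]
    exact lift_of_split R r₀ hr₀ u v hv (by rwa [hid] at hwv)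
  haveI : Finite k := Finite.of_injective _ (algebraMap k κ).injective
  haveI : IsAffine T.left := AlbLib.isAffine_of_isTorus hT
  obtain ⟨p, hp⟩ := CharP.exists k
  haveI : Fact p.Prime := ⟨CharP.char_is_prime k p⟩
  let good : ℕ → Prop := fun m => ∃ s : pt k A ⟶ T, pmap r₀ ≫ s = u ^ m
  have key : ∀ ℓ : ℕ, ℓ.Prime → Module.finrank k κ < ℓ → g.totalDegree < ℓ → good ℓ := by
    intro ℓ hℓ hd hdeg
    haveI : NeZero ℓ := ⟨hℓ.ne_zero⟩
    haveI : FiniteDimensional k κ := Module.Finite.of_finite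
    haveI : Finite (κ ⊗[k] FiniteField.Extension k p ℓ) := Module.finite_of_finite k
    have hfr := FiniteField.finrank_extension k p ℓ
    have hCf : IsField (κ ⊗[k] FiniteField.Extension k p ℓ) := isField_tensor κ _ (by
      rw [hfr]
      refine ((hℓ.coprime_iff_not_dvd).2 fun h => ?_).symm
      have := Nat.le_of_dvd Module.finrank_pos h
      omega)
    have hx : ∃ x : Fin R.n → κ ⊗[k] FiniteField.Extension k p ℓ, MvPolynomial.aeval x g ≠ 0 :=
      exists_aeval_ne_zero hCf g hg0 (lt_of_lt_of_le (hdeg.trans Nat.lt_two_pow_self) (by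
        rw [Module.natCard_eq_pow_finrank (K := k), Module.finrank_tensorProduct, hfr]
        exact (Nat.pow_le_pow_left Finite.one_lt_card ℓ).trans
          (Nat.pow_le_pow_right Nat.card_pos (Nat.le_mul_of_pos_left _ Module.finrank_pos))))
    haveI := isLocalRing_tensor r₀ hr₀ (FiniteField.Extension k p ℓ) hCf
    letI : Field (κ ⊗[k] FiniteField.Extension k p ℓ) := hCf.toField
    letI algC : Algebra κ (κ ⊗[k] FiniteField.Extension k p ℓ) := Algebra.TensorProduct.leftAlgebra
    let G := FiniteField.Extension k p ℓ ≃ₐ[k] FiniteField.Extension k p ℓ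
    have hcard : Fintype.card G = ℓ := by
      rw [← Nat.card_eq_fintype_card, IsGalois.card_aut_eq_finrank, hfr]
    obtain ⟨s, hs⟩ := norm_lift R hT (r₀ := r₀) hg hx
      (Algebra.TensorProduct.map r₀ (AlgHom.id k (FiniteField.Extension k p ℓ)))
      (Algebra.TensorProduct.map_surjective _ _ hr₀ Function.surjective_id)
      (Algebra.TensorProduct.includeLeft : A →ₐ[k] A ⊗[k] FiniteField.Extension k p ℓ)
      (Algebra.TensorProduct.includeLeft_injective (algebraMap k (FiniteField.Extension k p ℓ)).injective)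
      (fun y => by simp [r₀])
      (fun σ : G => Algebra.TensorProduct.map (AlgHom.id k A) σ.toAlgHom)
      (fun σ ρ => Algebra.TensorProduct.ext' fun a b => by simp; rfl)
      (fun σ : G => Algebra.TensorProduct.map (AlgHom.id k κ) σ.toAlgHom)
      (fun σ => Algebra.TensorProduct.ext' fun a b => by simp [r₀])
      (fun σ a => by
        show Algebra.TensorProduct.map (AlgHom.id k κ) σ.toAlgHom (a ⊗ₜ 1) = a ⊗ₜ 1
        simp)
      mem_range_includeLeft
    exact ⟨s, hs.trans (by rw [hcard])⟩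
  obtain ⟨ℓ₁, h1, hℓ₁⟩ := Nat.exists_infinite_primes (Module.finrank k κ + g.totalDegree + 1)
  obtain ⟨ℓ₂, h2, hℓ₂⟩ := Nat.exists_infinite_primes (ℓ₁ + 1)
  obtain ⟨s₁, hs₁⟩ := key ℓ₁ hℓ₁ (by omega) (by omega)
  obtain ⟨s₂, hs₂⟩ := key ℓ₂ hℓ₂ (by omega) (by omega)
  have hco : Nat.Coprime ℓ₁ ℓ₂ := (Nat.coprime_primes hℓ₁ hℓ₂).2 (by omega)
  refine ⟨s₁ ^ Nat.gcdA ℓ₁ ℓ₂ * s₂ ^ Nat.gcdB ℓ₁ ℓ₂, ?_⟩
  rw [MonObj.comp_mul, GrpObj.comp_zpow, GrpObj.comp_zpow, hs₁, hs₂, ← zpow_natCast, ← zpow_natCast, ← zpow_mul,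
    ← zpow_mul, ← zpow_add, ← Nat.gcd_eq_gcd_ab, hco.gcd_eq_one, Nat.cast_one, zpow_one]

end Groth.Agent.RetrLift
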