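import Groth.Agent.NeutralSchLib.Basic
import Groth.Agent.AlbLib.AffineHom
import Groth.Agent.DevissExLib.GeomConn
import Groth.Agent.ImgTorusLib.SameImage
import Groth.Agent.TorusLiftLib.Smooth
import Mathlib

/-! Lifting points of retract rational tori over local algebras. -/

set_option autoImplicit false
set_option backward.isDefEq.respectTransparency false
set_option linter.style.haveILetI false
set_option maxHeartbeats 800000

universe u

open CategoryTheory CategoryTheory.Limits MonoidalCategory CartesianMonoidalCategory AlgebraicGeometry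
open scoped MonObj

attribute [-instance] CategoryTheory.Hom.commGroup

noncomputable section

namespace Groth.Agent.RetrLift

variable (k : Type u) [Field k]

/-- The spectrum of an algebra over the ground field. -/
abbrev pt (B : Type u) [CommRing B] [Algebra k B] : Over (Spec (CommRingCat.of k)) :=
  Over.mk (Spec.map (CommRingCat.ofHom (algebraMap k B)))

variable {k}

/-- The map of spectra of an algebra homomorphism. -/
def pmap {B C : Type u} [CommRing B] [Algebra k B] [CommRing C] [Algebra k C] (f : B →ₐ[k] C) : pt k C ⟶ pt k B :=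
  Over.homMk (Spec.map (CommRingCat.ofHom f.toRingHom)) (by
    show Spec.map _ ≫ Spec.map _ = Spec.map _
    rw [← Spec.map_comp, ← CommRingCat.ofHom_comp]
    exact congrArg (fun h => Spec.map (CommRingCat.ofHom h)) f.comp_algebraMap)

theorem pmap_comp {B C D : Type u} [CommRing B] [Algebra k B] [CommRing C] [Algebra k C] [CommRing D] [Algebra k D]
    (f : B →ₐ[k] C) (g : C →ₐ[k] D) : pmap g ≫ pmap f = pmap (g.comp f) := by
  apply Over.OverMorphism.ext
  show Spec.map _ ≫ Spec.map _ = Spec.map _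
  rw [← Spec.map_comp]
  rfl

variable {T : Over (Spec (CommRingCat.of k))}

/-- The retraction data of a retract rational scheme. -/
structure Retr (T : Over (Spec (CommRingCat.of k))) where
  U : T.left.Opens
  n : ℕ
  Y : (Spec (CommRingCat.of (MvPolynomial (Fin n) k))).Opens
  a : (U : Scheme.{u}) ⟶ (Y : Scheme.{u})
  b : (Y : Scheme.{u}) ⟶ (U : Scheme.{u})
  ne : (U : Set T.left).Nonempty
  ab : a ≫ b = 𝟙 (U : Scheme.{u})
  wa : a ≫ Y.ι ≫ Spec.map (CommRingCat.ofHom (algebraMap k (MvPolynomial (Fin n) k))) = U.ι ≫ T.hom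
  wb : b ≫ U.ι ≫ T.hom = Y.ι ≫ Spec.map (CommRingCat.ofHom (algebraMap k (MvPolynomial (Fin n) k)))

/-- A field-valued point lands in an open as soon as its point does. -/
theorem range_le {L : Type u} [Field L] {X : Scheme.{u}} (f : Spec (CommRingCat.of L) ⟶ X) (V : X.Opens)
    (h : f (IsLocalRing.closedPoint L) ∈ V) : Set.range f ⊆ Set.range V.ι := by
  rintro _ ⟨z, rfl⟩
  rw [Scheme.Opens.range_ι, Subsingleton.elim z (IsLocalRing.closedPoint L)]
  exact h

theorem range_le_of_local {A : Type u} [CommRing A] [IsLocalRing A] {X : Scheme.{u}} (f : Spec (CommRingCat.of A) ⟶ X)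
    (V : X.Opens) (h : f (IsLocalRing.closedPoint A) ∈ V) : Set.range f ⊆ Set.range V.ι := by
  rintro _ ⟨z, rfl⟩
  rw [Scheme.Opens.range_ι]
  exact ((IsLocalRing.specializes_closedPoint z).map f.continuous).mem_open V.2 h

variable (R : Retr T)

/-- Points in the rational open lift. -/
theorem lift_of_mem {A C : Type u} [CommRing A] [IsLocalRing A] [Algebra k A] [Field C] [Algebra k C]
    (r : A →ₐ[k] C) (hr : Function.Surjective r) (q : pt k C ⟶ T)
    (hq : q.left (IsLocalRing.closedPoint C) ∈ R.U) : ∃ s : pt k A ⟶ T, pmap r ≫ s = q := by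
  let q' : Spec (CommRingCat.of C) ⟶ R.U.toScheme := IsOpenImmersion.lift R.U.ι q.left (range_le _ _ hq)
  have hq' : q' ≫ R.U.ι = q.left := IsOpenImmersion.lift_fac _ _ _
  let g := Spec.preimage (q' ≫ R.a ≫ R.Y.ι)
  have hg : Spec.map g = q' ≫ R.a ≫ R.Y.ι := Spec.map_preimage _
  have hgk : CommRingCat.ofHom (algebraMap k (MvPolynomial (Fin R.n) k)) ≫ g = CommRingCat.ofHom (algebraMap k C) :=
    Spec.map_injective (by rw [Spec.map_comp, hg, Category.assoc, Category.assoc, R.wa, ← Category.assoc, hq']; exact Over.w q)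
  let gA : MvPolynomial (Fin R.n) k →ₐ[k] C :=
    ⟨g.hom, fun c => ConcreteCategory.congr_hom hgk c⟩
  choose x hx using fun i => hr (gA (MvPolynomial.X i))
  let g' : MvPolynomial (Fin R.n) k →ₐ[k] A := MvPolynomial.aeval x
  have hgg : r.comp g' = gA := MvPolynomial.algHom_ext fun i => by simp [g', hx]
  let f : Spec (CommRingCat.of A) ⟶ Spec (CommRingCat.of (MvPolynomial (Fin R.n) k)) :=
    Spec.map (CommRingCat.ofHom g'.toRingHom)
  have hrf : Spec.map (CommRingCat.ofHom r.toRingHom) ≫ f = q' ≫ R.a ≫ R.Y.ι := by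
    rw [← hg, ← Spec.map_comp, ← CommRingCat.ofHom_comp]
    exact congrArg Spec.map (CommRingCat.hom_ext (congrArg AlgHom.toRingHom hgg))
  haveI : IsLocalHom r.toRingHom := ⟨fun z hz => by
    by_contra hu
    have h1 : z ∈ RingHom.ker r.toRingHom := by
      rw [IsLocalRing.eq_maximalIdeal (RingHom.ker_isMaximal_of_surjective r.toRingHom hr)]
      exact hu
    exact hz.ne_zero h1⟩
  have hfY : f (IsLocalRing.closedPoint A) ∈ R.Y := by
    have h1 : Spec.map (CommRingCat.ofHom r.toRingHom) (IsLocalRing.closedPoint C) = IsLocalRing.closedPoint A :=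
      IsLocalRing.comap_closedPoint r.toRingHom
    rw [← h1, ← Scheme.Hom.comp_apply, hrf, ← Category.assoc, Scheme.Hom.comp_apply]
    exact ((q' ≫ R.a) (IsLocalRing.closedPoint C)).2
  let f' := IsOpenImmersion.lift R.Y.ι f (range_le_of_local f R.Y hfY)
  have hf' : f' ≫ R.Y.ι = f := IsOpenImmersion.lift_fac _ _ _
  refine ⟨Over.homMk (f' ≫ R.b ≫ R.U.ι) ?_, Over.OverMorphism.ext ?_⟩
  · show (f' ≫ R.b ≫ R.U.ι) ≫ T.hom = Spec.map _
    rw [Category.assoc, Category.assoc, R.wb, ← Category.assoc, hf', ← Spec.map_comp, ← CommRingCat.ofHom_comp]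
    exact congrArg (fun h => Spec.map (CommRingCat.ofHom h)) g'.comp_algebraMap
  · show Spec.map (CommRingCat.ofHom r.toRingHom) ≫ f' ≫ R.b ≫ R.U.ι = q.left
    have h2 : Spec.map (CommRingCat.ofHom r.toRingHom) ≫ f' = q' ≫ R.a := by
      rw [← cancel_mono R.Y.ι, Category.assoc, hf', hrf, Category.assoc]
    rw [reassoc_of% h2, reassoc_of% R.ab, hq']

variable [GrpObj T]

include R in
/-- A product of two points of the rational open lifts. -/
theorem lift_of_split {A C : Type u} [CommRing A] [IsLocalRing A] [Algebra k A] [Field C] [Algebra k C]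
    (r : A →ₐ[k] C) (hr : Function.Surjective r) (w v : pt k C ⟶ T)
    (hv : v.left (IsLocalRing.closedPoint C) ∈ R.U) (hwv : (w * v).left (IsLocalRing.closedPoint C) ∈ R.U) :
    ∃ s : pt k A ⟶ T, pmap r ≫ s = w := by
  obtain ⟨s₁, h₁⟩ := lift_of_mem R r hr (w * v) hwv
  obtain ⟨s₂, h₂⟩ := lift_of_mem R r hr v hv
  exact ⟨s₁ * s₂⁻¹, by rw [MonObj.comp_mul, GrpObj.comp_inv, h₁, h₂, mul_inv_cancel_right]⟩

/-- Base changes of tori to fields are irreducible. -/
theorem irreducible_tensor (hT : Red.IsTorus T) (K : Type u) [Field K] [Algebra k K] :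
    IrreducibleSpace ↥(T ⊗ pt k K).left := by
  let j := Spec.map (CommRingCat.ofHom (algebraMap k K))
  have hT' : Red.IsTorus (Red.bc j T) := RedRank.isTorus_bc hT j
  haveI : Smooth (Red.bc j T).hom := TorusLift.smooth_of_isTorus hT'
  haveI : ConnectedSpace (Red.bc j T).left := by
    have h := ImgTorus.isConnected_fibre_torus hT' (IsLocalRing.closedPoint K)
    rw [connectedSpace_iff_univ]
    convert! h using 1
    exact (Set.eq_univ_of_forall fun x => Subsingleton.elim (α := ↥(Spec (CommRingCat.of K))) _ _).symm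
  show IrreducibleSpace ↥(Red.bc j T).left
  exact DevissExLib.irreducibleSpace_of_smooth_connected (Red.bc j T).hom

/-- Generic points split a given point into two points of the rational open. -/
theorem exists_field_split (hT : Red.IsTorus T) {K : Type u} [Field K] [Algebra k K] (w : pt k K ⟶ T) :
    ∃ (L : Type u) (_ : Field L) (_ : Algebra k L) (jK : K →ₐ[k] L) (v : pt k L ⟶ T),
      v.left (IsLocalRing.closedPoint L) ∈ R.U ∧ ((pmap jK ≫ w) * v).left (IsLocalRing.closedPoint L) ∈ R.U := by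
  haveI := irreducible_tensor hT K
  let P := T ⊗ pt k K
  let ξ := genericPoint ↥P.left
  have hmem : ∀ V : P.left.Opens, (V : Set P.left).Nonempty → ξ ∈ V := fun V hV =>
    (genericPoint_spec _).mem_open_set_iff V.2 |>.2 (by simpa using hV)
  haveI : Smooth T.hom := TorusLift.smooth_of_isTorus hT
  haveI hsurj : Surjective (fst T (pt k K)).left := by
    show Surjective (pullback.fst T.hom (Spec.map (CommRingCat.ofHom (algebraMap k K))))
    haveI : Surjective (Spec.map (CommRingCat.ofHom (algebraMap k K))) := ⟨fun z => ⟨IsLocalRing.closedPoint K, Subsingleton.elim (α := ↥(Spec (CommRingCat.of k))) _ _⟩⟩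
    exact MorphismProperty.pullback_fst (P := @Surjective) _ _ inferInstance
  have hξ1 : (fst T (pt k K)).left ξ ∈ R.U := hmem ((fst T (pt k K)).left ⁻¹ᵁ R.U) (by
    obtain ⟨x, hx⟩ := R.ne
    obtain ⟨z, rfl⟩ := (fst T (pt k K)).left.surjective x
    exact ⟨z, hx⟩)
  let τ := NeutralSch.tr (G := T) w
  have hξ2 : (fst T (pt k K)).left (τ.hom.left ξ) ∈ R.U :=
    hmem (τ.hom.left ⁻¹ᵁ ((fst T (pt k K)).left ⁻¹ᵁ R.U)) (by
      refine ⟨τ.inv.left ξ, ?_⟩
      show (fst T (pt k K)).left (τ.hom.left (τ.inv.left ξ)) ∈ R.U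
      rw [← Scheme.Hom.comp_apply τ.inv.left, ← Over.comp_left, Iso.inv_hom_id]
      exact hξ1)
  let str : CommRingCat.of k ⟶ P.left.residueField ξ := Spec.preimage (P.left.fromSpecResidueField ξ ≫ P.hom)
  letI : Algebra k ↥(P.left.residueField ξ) := str.hom.toAlgebra
  let i : pt k ↥(P.left.residueField ξ) ⟶ P := Over.homMk (P.left.fromSpecResidueField ξ) (Spec.map_preimage _).symm
  have hi : i.left (IsLocalRing.closedPoint _) = ξ := Scheme.fromSpecResidueField_apply ξ _
  let ι₀ := Spec.preimage (i ≫ snd T (pt k K)).left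
  let jK : K →ₐ[k] ↥(P.left.residueField ξ) := ⟨ι₀.hom, fun c => by
    have h : CommRingCat.ofHom (algebraMap k K) ≫ ι₀ = CommRingCat.ofHom (algebraMap k ↥(P.left.residueField ξ)) :=
      Spec.map_injective (by rw [Spec.map_comp, Spec.map_preimage]; exact Over.w (i ≫ snd T (pt k K)))
    exact ConcreteCategory.congr_hom h c⟩
  refine ⟨_, inferInstance, inferInstance, jK, i ≫ fst T (pt k K), ?_, ?_⟩
  · rw [Over.comp_left, Scheme.Hom.comp_apply, hi]
    exact hξ1
  · have hsnd : pmap jK = i ≫ snd T (pt k K) := Over.OverMorphism.ext (Spec.map_preimage _)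
    have h2 : (pmap jK ≫ w) * (i ≫ fst T (pt k K)) = i ≫ τ.hom ≫ fst T (pt k K) := by
      simp [τ, NeutralSch.tr, hsnd, MonObj.comp_mul]
    rw [h2, Over.comp_left, Scheme.Hom.comp_apply, hi, Over.comp_left, Scheme.Hom.comp_apply]
    exact hξ2

include R in
/-- The splittings of a point are parametrised by a nonzero polynomial's nonvanishing. -/
theorem exists_good (hT : Red.IsTorus T) {K : Type u} [Field K] [Algebra k K] (w : pt k K ⟶ T) :
    ∃ g : MvPolynomial (Fin R.n) K, g ≠ 0 ∧ ∀ (L : Type u) [Field L] [Algebra k L] [Algebra K L]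
      [IsScalarTower k K L] (x : Fin R.n → L), MvPolynomial.aeval x g ≠ 0 →
      ∃ v : pt k L ⟶ T, v.left (IsLocalRing.closedPoint L) ∈ R.U ∧
        ((pmap (IsScalarTower.toAlgHom k K L) ≫ w) * v).left (IsLocalRing.closedPoint L) ∈ R.U := by
  let φ : MvPolynomial (Fin R.n) k →ₐ[k] MvPolynomial (Fin R.n) K := MvPolynomial.mapAlgHom (Algebra.ofId k K)
  let φ' := Spec.map (CommRingCat.ofHom φ.toRingHom)
  let Y' := φ' ⁻¹ᵁ R.Y
  let Yo : Over (Spec (CommRingCat.of k)) := Over.mk (Y'.ι ≫ (pt k (MvPolynomial (Fin R.n) K)).hom)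
  let l : Y'.toScheme ⟶ R.Y.toScheme := IsOpenImmersion.lift R.Y.ι (Y'.ι ≫ φ') (by
    rintro _ ⟨z, rfl⟩; rw [Scheme.Opens.range_ι]; exact z.2)
  have hl : l ≫ R.Y.ι = Y'.ι ≫ φ' := IsOpenImmersion.lift_fac _ _ _
  let Φ₁ : Yo ⟶ T := Over.homMk (l ≫ R.b ≫ R.U.ι) (by
    show (l ≫ R.b ≫ R.U.ι) ≫ T.hom = Y'.ι ≫ Spec.map _
    rw [Category.assoc, Category.assoc, R.wb, ← Category.assoc, hl, Category.assoc, ← Spec.map_comp,
      ← CommRingCat.ofHom_comp]
    exact congrArg (fun h => Y'.ι ≫ Spec.map (CommRingCat.ofHom h)) φ.comp_algebraMap)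
  let toK : Yo ⟶ pt k K :=
    (Over.homMk Y'.ι rfl : Yo ⟶ pt k (MvPolynomial (Fin R.n) K)) ≫ pmap (Algebra.ofId K (MvPolynomial (Fin R.n) K) |>.restrictScalars k)
  let Φ₂ : Yo ⟶ T := (toK ≫ w) * Φ₁
  let O : (Spec (CommRingCat.of (MvPolynomial (Fin R.n) K))).Opens := Y'.ι ''ᵁ (Φ₂.left ⁻¹ᵁ R.U)
  have hO : ∃ z, z ∈ O := by
    obtain ⟨L, _, _, jK, v, hv, hwv⟩ := exists_field_split R hT w
    letI : Algebra K L := jK.toRingHom.toAlgebra
    haveI : IsScalarTower k K L := IsScalarTower.of_algebraMap_eq fun c => (jK.commutes c).symm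
    let q' : Spec (CommRingCat.of L) ⟶ R.U.toScheme := IsOpenImmersion.lift R.U.ι v.left (range_le _ _ hv)
    have hq' : q' ≫ R.U.ι = v.left := IsOpenImmersion.lift_fac _ _ _
    let g := Spec.preimage (q' ≫ R.a ≫ R.Y.ι)
    have hg : Spec.map g = q' ≫ R.a ≫ R.Y.ι := Spec.map_preimage _
    have hgk : CommRingCat.ofHom (algebraMap k (MvPolynomial (Fin R.n) k)) ≫ g = CommRingCat.ofHom (algebraMap k L) :=
      Spec.map_injective (by rw [Spec.map_comp, hg, Category.assoc, Category.assoc, R.wa, ← Category.assoc, hq']; exact Over.w v)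
    let gA : MvPolynomial (Fin R.n) k →ₐ[k] L := ⟨g.hom, fun c => ConcreteCategory.congr_hom hgk c⟩
    let g' : MvPolynomial (Fin R.n) K →ₐ[K] L := MvPolynomial.aeval fun i => gA (MvPolynomial.X i)
    have hgg : (g'.restrictScalars k).comp φ = gA := MvPolynomial.algHom_ext fun i => by simp [g', φ]
    let ρ : pt k L ⟶ pt k (MvPolynomial (Fin R.n) K) := pmap (g'.restrictScalars k)
    have hρ : ρ.left ≫ φ' = q' ≫ R.a ≫ R.Y.ι := by
      show Spec.map _ ≫ Spec.map _ = _
      rw [← hg, ← Spec.map_comp, ← CommRingCat.ofHom_comp]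
      exact congrArg Spec.map (CommRingCat.hom_ext (congrArg AlgHom.toRingHom hgg))
    have hr : Set.range ρ.left ⊆ Set.range Y'.ι := range_le _ _ (by
      show φ' (ρ.left (IsLocalRing.closedPoint L)) ∈ R.Y
      have h := congrArg (fun m : Spec (CommRingCat.of L) ⟶ _ => m (IsLocalRing.closedPoint L)) hρ
      exact Set.mem_of_eq_of_mem (x := φ' (ρ.left (IsLocalRing.closedPoint L))) (s := (R.Y : Set _)) h
        ((R.a (q' (IsLocalRing.closedPoint L))).2))
    let i : pt k L ⟶ Yo := Over.homMk (IsOpenImmersion.lift Y'.ι ρ.left hr) (by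
      show IsOpenImmersion.lift Y'.ι ρ.left hr ≫ Y'.ι ≫ _ = _
      rw [IsOpenImmersion.lift_fac_assoc]
      exact Over.w ρ)
    have hi1 : i ≫ Φ₁ = v := Over.OverMorphism.ext (by
      have h1 : IsOpenImmersion.lift Y'.ι ρ.left hr ≫ l = q' ≫ R.a := by
        rw [← cancel_mono R.Y.ι, Category.assoc, hl, IsOpenImmersion.lift_fac_assoc, hρ, Category.assoc]
      show IsOpenImmersion.lift Y'.ι ρ.left hr ≫ l ≫ R.b ≫ R.U.ι = v.left
      rw [reassoc_of% h1, reassoc_of% R.ab, hq'])
    have hi0 : i ≫ toK = pmap jK := by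
      apply Over.OverMorphism.ext
      show IsOpenImmersion.lift Y'.ι ρ.left hr ≫ Y'.ι ≫ Spec.map _ = Spec.map _
      rw [IsOpenImmersion.lift_fac_assoc]
      show Spec.map _ ≫ Spec.map _ = _
      rw [← Spec.map_comp, ← CommRingCat.ofHom_comp]
      exact congrArg Spec.map (CommRingCat.hom_ext (g'.comp_algebraMap))
    have hi2 : i ≫ Φ₂ = (pmap jK ≫ w) * v := by rw [MonObj.comp_mul, reassoc_of% hi0, hi1]
    refine ⟨Y'.ι (i.left (IsLocalRing.closedPoint L)), i.left (IsLocalRing.closedPoint L), ?_, rfl⟩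
    show Φ₂.left (i.left (IsLocalRing.closedPoint L)) ∈ R.U
    rw [← Scheme.Hom.comp_apply, ← Over.comp_left, hi2]
    exact hwv
  obtain ⟨z, hz⟩ := hO
  obtain ⟨_, ⟨g, rfl⟩, hzg, hgO⟩ :=
    PrimeSpectrum.isTopologicalBasis_basic_opens.exists_subset_of_mem_open hz O.2
  refine ⟨g, fun h => ?_, fun L _ _ _ _ x hx => ?_⟩
  · subst h; exact hzg (z.asIdeal.zero_mem)
  let g' : MvPolynomial (Fin R.n) K →ₐ[K] L := MvPolynomial.aeval x
  let ρ : pt k L ⟶ pt k (MvPolynomial (Fin R.n) K) := pmap (g'.restrictScalars k)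
  have hmem : ρ.left (IsLocalRing.closedPoint L) ∈ O := hgO (by
    show g ∉ Ideal.comap g'.toRingHom (IsLocalRing.maximalIdeal L)
    intro h
    exact h (isUnit_iff_ne_zero.2 hx))
  obtain ⟨y, hy, hyρ⟩ := hmem
  have hρY : ρ.left (IsLocalRing.closedPoint L) ∈ Y' := by rw [← hyρ]; exact y.2
  let i : pt k L ⟶ Yo := Over.homMk (IsOpenImmersion.lift Y'.ι ρ.left (range_le _ _ hρY)) (by
    show IsOpenImmersion.lift Y'.ι ρ.left (range_le _ _ hρY) ≫ Y'.ι ≫ _ = _
    rw [IsOpenImmersion.lift_fac_assoc]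
    exact Over.w ρ)
  have hi : i.left (IsLocalRing.closedPoint L) = y := by
    apply Y'.ι.isOpenEmbedding.injective
    refine Eq.trans ?_ hyρ.symm
    exact congrArg (fun m : Spec (CommRingCat.of L) ⟶ _ => m (IsLocalRing.closedPoint L)) (IsOpenImmersion.lift_fac Y'.ι ρ.left _)
  have hi0 : i ≫ toK = pmap (IsScalarTower.toAlgHom k K L) := by
    apply Over.OverMorphism.ext
    show IsOpenImmersion.lift Y'.ι ρ.left _ ≫ Y'.ι ≫ Spec.map _ = Spec.map _
    rw [IsOpenImmersion.lift_fac_assoc]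
    show Spec.map _ ≫ Spec.map _ = _
    rw [← Spec.map_comp, ← CommRingCat.ofHom_comp]
    exact congrArg Spec.map (CommRingCat.hom_ext (g'.comp_algebraMap))
  refine ⟨i ≫ Φ₁, ?_, ?_⟩
  · rw [Over.comp_left, Scheme.Hom.comp_apply]
    show (l ≫ R.b ≫ R.U.ι) (i.left (IsLocalRing.closedPoint L)) ∈ R.U
    rw [← Category.assoc, Scheme.Hom.comp_apply]
    exact ((l ≫ R.b) _).2
  · have h2 : (pmap (IsScalarTower.toAlgHom k K L) ≫ w) * (i ≫ Φ₁) = i ≫ Φ₂ := by
      rw [MonObj.comp_mul, reassoc_of% hi0]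
    rw [h2, Over.comp_left, Scheme.Hom.comp_apply, hi]
    exact hy

end Groth.Agent.RetrLift
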